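import Mathlib.GroupTheory.Perm.Basic
import Mathlib.Data.Fintype.BigOperators
import Mathlib.Algebra.BigOperators.Fin
import Mathlib.Tactic

/-!
Permutations of 24 points as numbers with five bits per point, for kernel computations.
-/
set_option autoImplicit false

namespace CfsgLib.FusionCert

/-- Pack `f 0, …, f (n-1)`, five bits each. -/
def enc (f : ℕ → ℕ) : ℕ → ℕ
  | 0 => 0
  | n + 1 => enc f n + f n * 32 ^ n

/-- The `i`-th packed entry. -/
def app (c i : ℕ) : ℕ := c / 32 ^ i % 32

theorem enc_lt (f : ℕ → ℕ) (hf : ∀ i, f i < 32) : ∀ n, enc f n < 32 ^ n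
  | 0 => by simp [enc]
  | n + 1 => by
    have h1 := enc_lt f hf n
    have h2 : f n * 32 ^ n ≤ 31 * 32 ^ n := Nat.mul_le_mul_right _ (Nat.le_pred_of_lt (hf n))
    simp only [enc, pow_succ]
    omega

theorem app_enc (f : ℕ → ℕ) (hf : ∀ i, f i < 32) : ∀ {n i : ℕ}, i < n → app (enc f n) i = f i := by
  intro n
  induction n with
  | zero => intro i hi; omega
  | succ n ih =>
    intro i hi
    rcases eq_or_lt_of_le (Nat.lt_succ_iff.1 hi) with rfl | hlt
    · simp only [app, enc]
      rw [Nat.add_mul_div_right _ _ (by positivity), Nat.div_eq_of_lt (enc_lt f hf i), zero_add,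
        Nat.mod_eq_of_lt (hf i)]
    · have e : (32 : ℕ) ^ n = 32 ^ (n - i - 1) * 32 * 32 ^ i := by
        rw [← pow_succ, ← pow_add]
        congr 1
        omega
      simp only [app, enc]
      rw [e, ← mul_assoc, ← mul_assoc, Nat.add_mul_div_right _ _ (by positivity), Nat.add_mul_mod_self_right]
      exact ih hlt

theorem enc_congr {f g : ℕ → ℕ} : ∀ {n : ℕ}, (∀ i < n, f i = g i) → enc f n = enc g n
  | 0, _ => rfl
  | n + 1, h => by
    rw [enc, enc, h n (by omega), enc_congr fun i hi => h i (by omega)]

/-- The code of the identity. -/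
def idC : ℕ := enc (fun i => i) 24

/-- The code of a composite (`mulC a b` is `a` after `b`). -/
def mulC (a b : ℕ) : ℕ := enc (fun i => app a (app b i)) 24

/-- The code of a permutation of 24 points. -/
def code (σ : Equiv.Perm (Fin 24)) : ℕ :=
  enc (fun i => if h : i < 24 then (σ ⟨i, h⟩ : ℕ) else 0) 24

theorem code_entry_lt (σ : Equiv.Perm (Fin 24)) (i : ℕ) :
    (if h : i < 24 then (σ ⟨i, h⟩ : ℕ) else 0) < 32 := by
  split
  · exact lt_of_lt_of_le (σ _).2 (by norm_num)
  · norm_num

theorem app_code (σ : Equiv.Perm (Fin 24)) (i : Fin 24) : app (code σ) i = σ i := by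
  rw [code, app_enc _ (code_entry_lt σ) i.2, dif_pos i.2]

theorem code_injective : Function.Injective code := fun σ τ h =>
  Equiv.ext fun i => Fin.ext (by rw [← app_code, h, app_code])

theorem code_mul (σ τ : Equiv.Perm (Fin 24)) : code (σ * τ) = mulC (code σ) (code τ) := by
  refine enc_congr fun i hi => ?_
  rw [dif_pos hi, show app (code τ) i = (τ ⟨i, hi⟩ : ℕ) from app_code τ ⟨i, hi⟩, app_code]
  rfl

theorem code_one : code 1 = idC := enc_congr fun i hi => by rw [dif_pos hi]; rfl

/-- The number of fixed points of a code. -/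
def fixC (c : ℕ) : ℕ := (List.range 24).countP fun i => app c i == i

/-- The sum of weights over fixed points of a code. -/
def wfixC (W : List ℕ) (c : ℕ) : ℕ :=
  ((List.range 24).map fun i => if app c i == i then W.getD i 0 else 0).sum

/-- The key of a code. -/
def keyC (W : List ℕ) (c : ℕ) : ℕ := fixC (mulC c c) * 100000 + wfixC W c

theorem countP_range_eq_card (q : ℕ → Bool) (n : ℕ) :
    (List.range n).countP q = (Finset.univ.filter fun i : Fin n => q i = true).card := by
  induction n with
  | zero => simp
  | succ n ih =>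
    rw [List.range_succ, List.countP_append, List.countP_singleton, ih,
      Finset.card_filter, Finset.card_filter, Fin.sum_univ_castSucc]
    rfl

theorem sum_map_range_eq (f : ℕ → ℕ) (n : ℕ) : ((List.range n).map f).sum = ∑ i : Fin n, f i := by
  induction n with
  | zero => simp
  | succ n ih =>
    rw [List.range_succ, List.map_append, List.sum_append, ih, Fin.sum_univ_castSucc]
    simp

theorem fixC_code (σ : Equiv.Perm (Fin 24)) :
    fixC (code σ) = (Finset.univ.filter fun i => σ i = i).card := by
  rw [fixC, countP_range_eq_card]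
  refine congrArg Finset.card (Finset.filter_congr fun i _ => ?_)
  rw [app_code, beq_iff_eq, Fin.val_inj]

theorem wfixC_code (W : List ℕ) (σ : Equiv.Perm (Fin 24)) :
    wfixC W (code σ) = ∑ i : Fin 24, if σ i = i then W.getD i 0 else 0 := by
  rw [wfixC, sum_map_range_eq]
  refine Finset.sum_congr rfl fun i _ => ?_
  rw [app_code]
  simp only [beq_iff_eq, Fin.val_inj]

theorem fix_card_conj (σ g : Equiv.Perm (Fin 24)) :
    (Finset.univ.filter fun i => (g * σ * g⁻¹) i = i).card = (Finset.univ.filter fun i => σ i = i).card := by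
  refine Finset.card_equiv g.symm fun i => ?_
  rw [Finset.mem_filter, Finset.mem_filter]
  simp [Equiv.Perm.inv_def, Equiv.eq_symm_apply]

attribute [local irreducible] code mulC fixC wfixC

/-- The key is invariant under a permutation preserving the weights. -/
theorem keyC_conj (W : List ℕ) (σ g : Equiv.Perm (Fin 24))
    (hW : ∀ i : Fin 24, W.getD (g i : ℕ) 0 = W.getD (i : ℕ) 0) :
    keyC W (code (g * σ * g⁻¹)) = keyC W (code σ) := by
  have h1 : fixC (mulC (code (g * σ * g⁻¹)) (code (g * σ * g⁻¹))) = fixC (mulC (code σ) (code σ)) := by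
    rw [← code_mul, ← code_mul, show g * σ * g⁻¹ * (g * σ * g⁻¹) = g * (σ * σ) * g⁻¹ by group,
      fixC_code, fixC_code, fix_card_conj]
  have h2 : wfixC W (code (g * σ * g⁻¹)) = wfixC W (code σ) := by
    rw [wfixC_code, wfixC_code]
    refine (Fintype.sum_equiv g _ _ fun i => ?_).symm
    rw [hW]
    simp [Equiv.Perm.mul_apply]
  unfold keyC
  exact congrArg₂ (fun a b => a * 100000 + b) h1 h2

end CfsgLib.FusionCert
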