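import Mathlib.GroupTheory.Frattini
import Mathlib.GroupTheory.GroupAction.Quotient
import Mathlib.GroupTheory.Sylow

/-!
An automorphism of a finite `2`-group preserving a flag of index-2 steps above a subgroup of the Frattini
subgroup has `2`-power order.
-/
set_option autoImplicit false

namespace CfsgLib.FusionCert

theorem sq_mem_frattini {P : Type*} [Group P] [Finite P] (hP : IsPGroup 2 P) (x : P) :
    x * x ∈ frattini P := by
  have := hP.isNilpotent
  rw [frattini, Order.radical, Subgroup.mem_iInf]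
  intro M
  rw [Subgroup.mem_iInf]
  intro hM
  have hn : M.Normal := Subgroup.NormalizerCondition.normal_of_coatom M Group.normalizerCondition_of_isNilpotent hM
  by_cases hx : x ∈ M
  · exact M.mul_mem hx hx
  have hQ : IsPGroup 2 (P ⧸ M) := hP.to_quotient M
  have hne : Nontrivial (P ⧸ M) := ⟨⟨(x : P ⧸ M), 1, fun h => hx ((QuotientGroup.eq_one_iff x).1 h)⟩⟩
  obtain ⟨n, hn0, hcard⟩ := hQ.nontrivial_iff_card.1 hne
  obtain ⟨c, hc⟩ := exists_prime_orderOf_dvd_card' (G := P ⧸ M) 2 (hcard ▸ dvd_pow_self 2 hn0.ne')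
  have htop : Subgroup.zpowers c = ⊤ := by
    refine Subgroup.comap_injective (QuotientGroup.mk'_surjective M) ?_
    rw [Subgroup.comap_top]
    have hle : M ≤ (Subgroup.zpowers c).comap (QuotientGroup.mk' M) := fun m hm => by
      rw [Subgroup.mem_comap, show QuotientGroup.mk' M m = 1 from (QuotientGroup.eq_one_iff m).2 hm]
      exact one_mem _
    rcases hle.eq_or_lt with h | h
    · exfalso
      obtain ⟨y, rfl⟩ := QuotientGroup.mk'_surjective M c
      have hy : y ∈ M := h.ge (Subgroup.mem_zpowers (QuotientGroup.mk' M y))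
      rw [show QuotientGroup.mk' M y = 1 from (QuotientGroup.eq_one_iff y).2 hy, orderOf_one] at hc
      omega
    · exact hM.2 _ h
  obtain ⟨i, hi⟩ := Subgroup.mem_zpowers_iff.1 (htop ▸ Subgroup.mem_top (x : P ⧸ M))
  rw [← QuotientGroup.eq_one_iff, QuotientGroup.mk_mul, ← hi, ← zpow_add, ← two_mul, zpow_mul]
  rw [show c ^ (2 : ℤ) = 1 by rw [zpow_two, ← pow_two, ← hc, pow_orderOf_eq_one], one_zpow]

/-- A finite group acting freely has order dividing the size of the set. -/
theorem card_dvd_of_free {A X : Type*} [Group A] [MulAction A X] [Finite A] [Finite X]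
    (hfree : ∀ (a : A) (x : X), a • x = x → a = 1) : Nat.card A ∣ Nat.card X := by
  classical
  cases nonempty_fintype X
  cases nonempty_fintype A
  rw [Nat.card_congr (MulAction.selfEquivSigmaOrbitsQuotientStabilizer A X), Nat.card_sigma]
  refine Finset.dvd_sum fun ω _ => ?_
  have h : MulAction.stabilizer A ω.out = ⊥ :=
    le_bot_iff.1 fun a ha => Subgroup.mem_bot.2 (hfree a ω.out (MulAction.mem_stabilizer_iff.1 ha))
  show Nat.card A ∣ (MulAction.stabilizer A ω.out).index
  rw [h, Subgroup.index_bot]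

/-- An automorphism preserving a flag above a subgroup of the Frattini subgroup has `2`-power order. -/
theorem exists_pow_eq_one_of_flag {P : Type*} [Group P] [Finite P] {d : ℕ} (V : ℕ → Subgroup P)
    (e : ℕ → ℕ) (hmono : ∀ i < d, V i ≤ V (i + 1)) (hbot : V 0 ≤ frattini P) (htop : V d = ⊤)
    (hcard : ∀ i ≤ d, Nat.card (V i) = 2 ^ e i) (hstep : ∀ i < d, e (i + 1) = e i + 1)
    (α : MulAut P) (hα : ∀ i ≤ d, ∀ x, α x ∈ V i ↔ x ∈ V i) : ∃ n : ℕ, α ^ 2 ^ n = 1 := by
  classical
  let X := {t : Fin d → P // ∀ i : Fin d, t i ∈ V (i + 1) ∧ t i ∉ V i}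
  let stab : Subgroup (MulAut P) :=
    { carrier := {β | ∀ i ≤ d, ∀ x, β x ∈ V i ↔ x ∈ V i}
      one_mem' := fun i _ x => Iff.rfl
      mul_mem' := fun {a b} ha hb i hi x => (ha i hi (b x)).trans (hb i hi x)
      inv_mem' := fun {a} ha i hi x => by
        have := ha i hi (a⁻¹ x)
        rw [MulAut.apply_inv_self] at this
        exact this.symm }
  have hle : Subgroup.zpowers α ≤ stab := Subgroup.zpowers_le.2 hα
  let inst : MulAction (Subgroup.zpowers α) X :=
    { smul := fun a t => ⟨fun i => (a : MulAut P) (t.1 i),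
        fun i => ⟨(hle a.2 _ i.2 _).2 (t.2 i).1, fun h => (t.2 i).2 ((hle a.2 _ i.2.le _).1 h)⟩⟩
      one_smul := fun t => rfl
      mul_smul := fun a b t => rfl }
  have : Finite (MulAut P) := Finite.of_injective (fun e : MulAut P => (e : P → P)) DFunLike.coe_injective
  have hgen : ∀ t : X, Subgroup.closure (Set.range t.1) = ⊤ := by
    intro t
    refine frattini_nongenerating (top_le_iff.1 (htop ▸ ?_))
    suffices h : ∀ i ≤ d, V i ≤ Subgroup.closure (Set.range t.1) ⊔ frattini P from h d le_rfl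
    intro i
    induction i with
    | zero => exact fun _ => hbot.trans le_sup_right
    | succ i ih =>
      intro hi x hx
      have hW := ih (by omega)
      obtain ⟨ht1, ht2⟩ := t.2 ⟨i, hi⟩
      have htc : t.1 ⟨i, hi⟩ ∈ Subgroup.closure (Set.range t.1) ⊔ frattini P :=
        Subgroup.mem_sup_left (Subgroup.subset_closure ⟨_, rfl⟩)
      have hidx : ((V i).subgroupOf (V (i + 1))).index = 2 := by
        have h1 := Subgroup.card_mul_index ((V i).subgroupOf (V (i + 1)))
        rw [Nat.card_congr (Subgroup.subgroupOfEquivOfLe (hmono i hi)).toEquiv, hcard i (by omega),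
          hcard (i + 1) hi, hstep i hi, pow_succ] at h1
        exact Nat.eq_of_mul_eq_mul_left (by positivity) h1
      by_cases hxi : x ∈ V i
      · exact hW hxi
      · have hm := (Subgroup.mul_mem_iff_of_index_two hidx (a := ⟨x, hx⟩) (b := ⟨_, ht1⟩)).2
          ⟨fun h => absurd h hxi, fun h => absurd h ht2⟩
        have := Subgroup.mul_mem _ (hW (show x * t.1 ⟨i, hi⟩ ∈ V i from hm)) (Subgroup.inv_mem _ htc)
        simpa using this
  have hfree : ∀ (a : Subgroup.zpowers α) (t : X), a • t = t → a = 1 := by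
    intro a t h
    refine Subtype.ext (MulEquiv.ext fun x => ?_)
    have hx : x ∈ Subgroup.closure (Set.range t.1) := hgen t ▸ Subgroup.mem_top x
    induction hx using Subgroup.closure_induction with
    | mem y hy =>
      obtain ⟨i, rfl⟩ := hy
      exact congrFun (congrArg Subtype.val h) i
    | one => exact map_one _
    | mul y z _ _ hy hz => rw [map_mul, hy, hz]; rfl
    | inv y _ hy => rw [map_inv, hy]; rfl
  have hdvd := card_dvd_of_free hfree
  have hX : Nat.card X = ∏ i : Fin d, 2 ^ e i := by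
    have h1 : Nat.card X = Nat.card (∀ i : Fin d, {x : P // x ∈ V (i + 1) ∧ x ∉ V i}) :=
      Nat.card_congr (Equiv.subtypePiEquivPi (p := fun (i : Fin d) (x : P) => x ∈ V (i + 1) ∧ x ∉ V i))
    rw [h1, Nat.card_pi]
    refine Finset.prod_congr rfl fun i _ => ?_
    have h2 : Nat.card {x : P // x ∈ V (i + 1) ∧ x ∉ V i} =
        ((V (i + 1) : Set P) \ (V i : Set P)).ncard := (Nat.card_coe_set_eq _)
    rw [h2, Set.ncard_sdiff (hmono i i.2), ← Nat.card_coe_set_eq, ← Nat.card_coe_set_eq,
      SetLike.coe_sort_coe, SetLike.coe_sort_coe, hcard i i.2.le, hcard (i + 1) i.2, hstep i i.2, pow_succ]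
    omega
  rw [Nat.card_zpowers, hX, Finset.prod_pow_eq_pow_sum] at hdvd
  obtain ⟨n, -, hn⟩ := (Nat.dvd_prime_pow Nat.prime_two).1 hdvd
  exact ⟨n, hn ▸ pow_orderOf_eq_one α⟩

end CfsgLib.FusionCert
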