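import Cfsg.Agent.Lib.FusionCert.Sequence
import Cfsg.Agent.Lib.FusionCert.FlagAut
import Cfsg.Agent.Lib.FusionQuot.SimpleCriterion

/-!
A computable certificate for the simplicity of the 2-fusion system of a group of permutations of 24 points.
-/
set_option autoImplicit false

namespace CfsgLib.FusionCert

open Cfsg Cfsg.FusionSystem CfsgLib.Fusion CfsgLib.FusionQuot

/-- The data: an index-2 sequence `hs` with element table `L`, the number `m` of its members generating
squares, expressions of those, key sets, weights, the central element's index, and a program showing that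
the strongly closed subgroup of the central element is everything. -/
structure SimpleCert where
  hs : List ℕ
  L : List ℕ
  m : ℕ
  sqExpr : List (ℕ × ℕ)
  keys : List (List ℕ)
  W : List ℕ
  z : ℕ
  conjs : List ℕ
  slp : List (Bool × ℕ × ℕ × ℕ)

/-- The element with a given index. -/
def SimpleCert.el (C : SimpleCert) (i : ℕ) : ℕ := C.L.getD i 0

/-- One step of the program: a product, or a conjugate. -/
def SimpleCert.stepOK (C : SimpleCert) (known : List ℕ) : Bool × ℕ × ℕ × ℕ → Bool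
  | (false, i, j, l) => known.contains i && known.contains j && (C.el l == mulC (C.el i) (C.el j))
  | (true, i, g, l) => known.contains i && decide (g < C.conjs.length) &&
      (mulC (C.conjs.getD g 0) (C.el i) == mulC (C.el l) (C.conjs.getD g 0))

/-- Run the program. -/
def SimpleCert.run (C : SimpleCert) : List (Bool × ℕ × ℕ × ℕ) → List ℕ → Option (List ℕ)
  | [], known => some known
  | s :: rest, known =>
    if C.stepOK known s && decide (s.2.2.2 < C.L.length) then C.run rest (s.2.2.2 :: known) else none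

def SimpleCert.centerOK (C : SimpleCert) : Bool :=
  decide (C.z < C.L.length) && !(C.el C.z == idC) &&
  C.L.all fun c => (c == idC) || (c == C.el C.z) || C.hs.any fun h => !(mulC c h == mulC h c)

def SimpleCert.sqOK (C : SimpleCert) : Bool :=
  decide (C.m ≤ C.hs.length) && (C.L.all fun c => (C.L.take (2 ^ C.m)).contains (mulC c c)) &&
  (List.range C.m).all fun j =>
    let e := C.sqExpr.getD j (0, 0)
    decide (e.1 < C.L.length) && decide (e.2 < C.L.length) &&
      (C.hs.getD j 0 == mulC (mulC (C.el e.1) (C.el e.1)) (mulC (C.el e.2) (C.el e.2)))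

def SimpleCert.weightsOK (C : SimpleCert) : Bool :=
  (List.range 24).all fun i => C.W.getD i 0 == C.L.countP fun c => app c i == i

def SimpleCert.flagOK (C : SimpleCert) : Bool :=
  (List.range (C.hs.length - C.m)).all fun i =>
    let K := C.keys.getD i []
    ((C.L.drop (2 ^ (C.m + i + 1))).all fun c => !K.contains (keyC C.W c)) &&
      (List.range (i + 1)).all fun l => K.contains (keyC C.W (C.hs.getD (C.m + l) 0))

def SimpleCert.slpOK (C : SimpleCert) : Bool :=
  match C.run C.slp [C.z] with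
  | some known => C.hs.all fun h => known.any fun i => C.el i == h
  | none => false

/-- All checks. -/
def SimpleCert.check (C : SimpleCert) : Bool :=
  seqCheck C.hs C.L && C.centerOK && C.sqOK && C.weightsOK && C.flagOK && C.slpOK

variable {Γ : Type*} [Group Γ] [Finite Γ]

attribute [local irreducible] code mulC keyC idC app enc

/-- Strongly closed subgroups and `Aut_G(S)` conditions transported between Sylow subgroups. -/
theorem isSimple_of_witness {p : ℕ} [Fact p.Prime] (S S₀ : Sylow p Γ) (hne : (S₀ : Subgroup Γ) ≠ ⊥)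
    (ha : ∀ T : Subgroup Γ, (groupFusionSystem (S₀ : Subgroup Γ)).StronglyClosed T →
      T = ⊥ ∨ T = (S₀ : Subgroup Γ))
    (hb : autInducedBy ⊤ (S₀ : Subgroup Γ) ≤ autInducedBy (S₀ : Subgroup Γ) (S₀ : Subgroup Γ)) :
    (groupFusionSystem (S : Subgroup Γ)).IsSimple p := by
  obtain ⟨c, hc⟩ := MulAction.exists_smul_eq Γ S S₀
  have hmem : ∀ x, x ∈ (S : Subgroup Γ) ↔ c * x * c⁻¹ ∈ (S₀ : Subgroup Γ) := by
    intro x
    rw [← hc, ← SetLike.mem_coe, ← SetLike.mem_coe (p := ((c • S : Sylow p Γ) : Subgroup Γ)),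
      Sylow.coe_subgroup_smul]
    exact (Subgroup.smul_mem_pointwise_smul_iff (a := MulAut.conj c)).symm
  refine isSimple_of_autInducedBy_top_le S ?_ ?_ ?_
  · intro hS
    refine hne (le_bot_iff.1 fun y hy => ?_)
    have h1 : c⁻¹ * y * c ∈ (S : Subgroup Γ) := (hmem _).2 (by simpa [mul_assoc] using hy)
    rw [hS, Subgroup.mem_bot] at h1
    rw [Subgroup.mem_bot]
    calc y = c * (c⁻¹ * y * c) * c⁻¹ := by group
      _ = 1 := by rw [h1]; group
  · intro T hT
    let T₀ := T.map (MulAut.conj c).toMonoidHom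
    have hT₀S : T₀ ≤ (S₀ : Subgroup Γ) := by
      rintro _ ⟨t, ht, rfl⟩
      exact (hmem t).1 (hT.1 ht)
    have hT₀ : (groupFusionSystem (S₀ : Subgroup Γ)).StronglyClosed T₀ := by
      refine ⟨hT₀S, fun R hR φ hφ x => ?_⟩
      obtain ⟨-, hφS, g, hg⟩ := hφ
      obtain ⟨t, ht, htx⟩ := hR x.2
      have htS : t ∈ (S : Subgroup Γ) := hT.1 ht
      have h2 : ∀ y ∈ Subgroup.zpowers t, (c⁻¹ * g * c) * y * (c⁻¹ * g * c)⁻¹ ∈ (S : Subgroup Γ) := by
        intro y hy
        have hy' : c * y * c⁻¹ ∈ R := by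
          obtain ⟨i, rfl⟩ := hy
          have : c * t ^ i * c⁻¹ = ((x : Γ)) ^ i := by rw [← htx]; simp [conj_zpow]
          rw [this]
          exact R.zpow_mem x.2 i
        rw [hmem]
        have h4 := hφS ⟨_, hy'⟩
        rw [hg] at h4
        convert h4 using 1
        group
      have hmap : conjHom (Subgroup.zpowers t) (c⁻¹ * g * c) ∈
          (groupFusionSystem (S : Subgroup Γ)).Hom (Subgroup.zpowers t) :=
        ⟨Subgroup.zpowers_le.2 htS, fun y => h2 y y.2, _, fun y => rfl⟩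
      refine ⟨_, hT.2 _ (Subgroup.zpowers_le.2 ht) _ hmap ⟨t, Subgroup.mem_zpowers t⟩, ?_⟩
      show c * ((c⁻¹ * g * c) * t * (c⁻¹ * g * c)⁻¹) * c⁻¹ = φ x
      rw [hg, ← htx]
      simp [mul_assoc]
    have inj : ∀ {y : Γ}, y ∈ T ↔ c * y * c⁻¹ ∈ T₀ := fun {y} =>
      ⟨fun h => ⟨y, h, rfl⟩, by rintro ⟨z, hz, h⟩; simp at h; exact h ▸ hz⟩
    rcases ha T₀ hT₀ with h | h
    · refine Or.inl (le_bot_iff.1 fun y hy => ?_)
      have := inj.1 hy
      rw [h, Subgroup.mem_bot, conj_eq_one_iff] at this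
      exact Subgroup.mem_bot.2 this
    · refine Or.inr (le_antisymm hT.1 fun y hy => inj.2 ?_)
      rw [h]
      exact (hmem y).1 hy
  · intro α hα
    obtain ⟨g, hg, -, rfl⟩ := exists_eq_conjAut hα
    have hN : c * g * c⁻¹ ∈ Subgroup.normalizer ((S₀ : Subgroup Γ) : Set Γ) := by
      refine Subgroup.mem_normalizer_iff.2 fun n => ?_
      obtain ⟨n, rfl⟩ : ∃ m, c * m * c⁻¹ = n := ⟨c⁻¹ * n * c, by group⟩
      rw [← hmem, show c * g * c⁻¹ * (c * n * c⁻¹) * (c * g * c⁻¹)⁻¹ = c * (g * n * g⁻¹) * c⁻¹ by group,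
        ← hmem]
      exact Subgroup.mem_normalizer_iff.1 hg n
    obtain ⟨s, hs, hsx⟩ := mem_autInducedBy_iff.1 (hb (conjAut_mem_autInducedBy (Subgroup.mem_top _) hN))
    refine mem_autInducedBy_iff.2 ⟨c⁻¹ * s * c, (hmem _).2 (by simpa [mul_assoc] using hs), fun x => ?_⟩
    have h : c * g * c⁻¹ * (c * x * c⁻¹) * (c * g * c⁻¹)⁻¹ = s * (c * x * c⁻¹) * s⁻¹ :=
      hsx ⟨_, (hmem x).1 x.2⟩
    rw [conjAut_apply]
    calc g * (x : Γ) * g⁻¹ = c⁻¹ * (c * g * c⁻¹ * (c * x * c⁻¹) * (c * g * c⁻¹)⁻¹) * c := by group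
      _ = _ := by rw [h]; group

theorem autInducedBy_top_le_of_pow {p : ℕ} [Fact p.Prime] (S₀ : Sylow p Γ)
    (h : ∀ g (hg : g ∈ Subgroup.normalizer ((S₀ : Subgroup Γ) : Set Γ)),
      ∃ n, conjAut (S₀ : Subgroup Γ) g hg ^ p ^ n = 1) :
    autInducedBy ⊤ (S₀ : Subgroup Γ) ≤ autInducedBy (S₀ : Subgroup Γ) (S₀ : Subgroup Γ) := by
  obtain ⟨T, hT⟩ := (isFullyAutomized_of_isFullyNormalized S₀.2 (groupFusionSystem_isSaturated S₀)
    (isFullyNormalized_top (groupFusionSystem (S₀ : Subgroup Γ)))).2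
  have hp : IsPGroup p ((groupFusionSystem (S₀ : Subgroup Γ)).autGroup (S₀ : Subgroup Γ)) := by
    rintro ⟨α, hα⟩
    rw [group_autGroup_eq le_rfl] at hα
    obtain ⟨g, hg, -, rfl⟩ := exists_eq_conjAut hα
    obtain ⟨n, hn⟩ := h g hg
    exact ⟨n, Subtype.ext hn⟩
  intro α hα
  rw [← group_autGroup_eq le_rfl] at hα
  have h1 := T.is_maximal' (hp.to_subgroup ⊤) le_top
  have h2 : (⟨α, hα⟩ : (groupFusionSystem (S₀ : Subgroup Γ)).autGroup (S₀ : Subgroup Γ)) ∈ T.toSubgroup :=
    h1 ▸ Subgroup.mem_top _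
  rw [hT] at h2
  exact h2

theorem countP_eq_card_filter {β : Type*} [DecidableEq β] (q : β → Bool) : ∀ (L : List β), L.Nodup →
    L.countP q = (L.toFinset.filter fun x => q x = true).card := by
  intro L hL
  rw [List.countP_eq_length_filter, ← List.toFinset_card_of_nodup (hL.filter q)]
  congr 1
  ext x
  simp

/-- The certificate theorem. -/
theorem SimpleCert.isSimple (C : SimpleCert) (ρ : Γ →* Equiv.Perm (Fin 24)) (hρ : Function.Injective ρ)
    (hcheck : C.check = true) (hmem : ∀ c ∈ C.hs ++ C.conjs, ∃ g : Γ, code (ρ g) = c)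
    {o : ℕ} (hcardΓ : Nat.card Γ = 2 ^ C.hs.length * o) (ho : o % 2 = 1) (hpos : 0 < C.hs.length)
    (S : Sylow 2 Γ) : (groupFusionSystem (S : Subgroup Γ)).IsSimple 2 := by
  classical
  simp only [SimpleCert.check, Bool.and_eq_true] at hcheck
  obtain ⟨⟨⟨⟨⟨hseq, hcent⟩, hsq⟩, hW⟩, hflag⟩, hslp⟩ := hcheck
  have hmemH : ∀ j < C.hs.length, C.hs.getD j 0 ∈ C.hs ++ C.conjs := fun j hj => by
    rw [List.getD_eq_getElem _ _ hj]
    exact List.mem_append_left _ (List.getElem_mem hj)
  let hΓ : ℕ → Γ := fun j => if hj : j < C.hs.length then (hmem _ (hmemH j hj)).choose else 1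
  have hcode : ∀ j < C.hs.length, code (ρ (hΓ j)) = C.hs.getD j 0 := fun j hj => by
    simp only [hΓ, dif_pos hj]
    exact (hmem _ (hmemH j hj)).choose_spec
  have spec := seq_spec ρ hρ hseq hΓ hcode
  set k := C.hs.length with hk
  have hLeq : elemsC C.hs k = C.L := by
    simp only [seqCheck, Bool.and_eq_true, beq_iff_eq] at hseq
    exact hseq.1
  have hLlen : C.L.length = 2 ^ k := by rw [← hLeq, elemsC_length]
  have htake : C.L.take (2 ^ k) = C.L := by rw [← hLlen, List.take_length]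
  obtain ⟨hmemk, hexk, hcardk⟩ := spec k le_rfl
  rw [htake] at hmemk hexk
  set H := seqSubgroup hΓ k with hH
  have inj : ∀ a b : Γ, code (ρ a) = code (ρ b) → a = b := fun a b h => hρ (code_injective h)
  have cmul : ∀ a b : Γ, code (ρ (a * b)) = mulC (code (ρ a)) (code (ρ b)) := fun a b => by
    rw [map_mul, code_mul]
  have c1 : code (ρ 1) = idC := by rw [map_one, code_one]
  have hfac : (Nat.card Γ).factorization 2 = k := by
    have hodd : ¬ 2 ∣ o := by omega
    rw [hcardΓ, Nat.factorization_mul (by positivity) (by omega)]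
    simp [Nat.Prime.factorization_pow Nat.prime_two, Nat.factorization_eq_zero_of_not_dvd hodd]
  let S₀ : Sylow 2 Γ := Sylow.ofCard H (by rw [hcardk, hfac])
  have hS₀ : (S₀ : Subgroup Γ) = H := rfl
  have hel : ∀ i < C.L.length, ∃ x ∈ H, code (ρ x) = C.el i := fun i hi => by
    have hc : C.el i ∈ C.L := by
      rw [SimpleCert.el, List.getD_eq_getElem _ _ hi]
      exact List.getElem_mem hi
    obtain ⟨x, hx⟩ := hexk _ hc
    exact ⟨x, (hmemk x).2 (hx ▸ hc), hx⟩
  -- the squares
  simp only [SimpleCert.sqOK, Bool.and_eq_true, List.all_eq_true, decide_eq_true_eq, List.contains_eq_mem,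
    List.mem_range, beq_iff_eq] at hsq
  obtain ⟨⟨hmk, hsq2⟩, hexpr⟩ := hsq
  have hsqH : ∀ x ∈ H, x * x ∈ seqSubgroup hΓ C.m := fun x hx =>
    ((spec C.m hmk).1 _).2 (cmul x x ▸ hsq2 _ ((hmemk x).1 hx))
  -- the weights
  have hHfin : (H : Set Γ).Finite := Set.toFinite _
  have hnodup : C.L.Nodup := by
    have h1 : C.L.toFinset = hHfin.toFinset.image fun g => code (ρ g) := by
      ext c
      rw [List.mem_toFinset, Finset.mem_image]
      refine ⟨fun hc => ?_, ?_⟩
      · obtain ⟨g, rfl⟩ := hexk c hc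
        exact ⟨g, hHfin.mem_toFinset.2 ((hmemk g).2 hc), rfl⟩
      · rintro ⟨g, hg, rfl⟩
        exact (hmemk g).1 (hHfin.mem_toFinset.1 hg)
    have h2 : C.L.toFinset.card = 2 ^ k := by
      rw [h1, Finset.card_image_of_injective _ fun a b h => inj a b h, ← Set.ncard_eq_toFinset_card,
        ← Nat.card_coe_set_eq, SetLike.coe_sort_coe, hcardk]
    have hd : C.L.dedup.length = C.L.length := by rw [← List.card_toFinset, h2, hLlen]
    exact (List.dedup_sublist _).eq_of_length hd ▸ List.nodup_dedup _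
  simp only [SimpleCert.weightsOK, List.all_eq_true, List.mem_range, beq_iff_eq] at hW
  have hWval : ∀ i : Fin 24, C.W.getD (i : ℕ) 0 = (hHfin.toFinset.filter fun h => ρ h i = i).card := by
    intro i
    rw [hW i i.2, countP_eq_card_filter _ _ hnodup]
    refine (Finset.card_bij (fun g _ => code (ρ g)) ?_ (fun a _ b _ h => inj a b h) ?_).symm
    · intro g hg
      obtain ⟨hgH, hgi⟩ := Finset.mem_filter.1 hg
      refine Finset.mem_filter.2 ⟨List.mem_toFinset.2 ((hmemk g).1 (hHfin.mem_toFinset.1 hgH)), ?_⟩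
      rw [app_code, hgi, beq_self_eq_true]
    · intro c hc
      obtain ⟨hcL, hci⟩ := Finset.mem_filter.1 hc
      obtain ⟨g, rfl⟩ := hexk c (List.mem_toFinset.1 hcL)
      refine ⟨g, Finset.mem_filter.2 ⟨hHfin.mem_toFinset.2 ((hmemk g).2 (List.mem_toFinset.1 hcL)), ?_⟩, rfl⟩
      rw [app_code, beq_iff_eq, Fin.val_inj] at hci
      exact hci
  have hWinv : ∀ g ∈ Subgroup.normalizer (H : Set Γ), ∀ i : Fin 24,
      C.W.getD (ρ g i : ℕ) 0 = C.W.getD (i : ℕ) 0 := by
    intro g hg i
    rw [hWval, hWval]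
    refine (Finset.card_equiv (MulAut.conj g).toEquiv fun h => ?_).symm
    simp only [Finset.mem_filter, Set.Finite.mem_toFinset, SetLike.mem_coe]
    refine and_congr (Subgroup.mem_normalizer_iff.1 hg h) ?_
    show ρ h i = i ↔ ρ (g * h * g⁻¹) (ρ g i) = ρ g i
    simp [map_mul, map_inv, Equiv.Perm.mul_apply]
  have hkey : ∀ g ∈ Subgroup.normalizer (H : Set Γ), ∀ x : Γ,
      keyC C.W (code (ρ (g * x * g⁻¹))) = keyC C.W (code (ρ x)) := fun g hg x => by
    rw [map_mul, map_mul, map_inv]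
    exact keyC_conj _ _ _ (hWinv g hg)
  simp only [SimpleCert.flagOK, Bool.and_eq_true, List.all_eq_true, List.mem_range, Bool.not_eq_true',
    List.contains_eq_mem, decide_eq_true_eq, decide_eq_false_iff_not] at hflag
  have hinvar : ∀ g ∈ Subgroup.normalizer (H : Set Γ), ∀ i ≤ k - C.m,
      ∀ x ∈ seqSubgroup hΓ (C.m + i), g * x * g⁻¹ ∈ seqSubgroup hΓ (C.m + i) := by
    intro g hg i hi x hx
    refine Subgroup.closure_induction
      (p := fun x _ => g * x * g⁻¹ ∈ seqSubgroup hΓ (C.m + i)) ?_ (by simp) ?_ ?_ hx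
    · rintro _ ⟨l, hl, rfl⟩
      have hlk : l < k := by omega
      have hgH : ∀ y ∈ H, g * y * g⁻¹ ∈ H := fun y => (Subgroup.mem_normalizer_iff.1 hg y).1
      by_cases hlm : l < C.m
      · obtain ⟨⟨e1, e2⟩, hee⟩ := hexpr l hlm
        obtain ⟨a, ha, hac⟩ := hel _ e1
        obtain ⟨b, hb, hbc⟩ := hel _ e2
        have : hΓ l = a * a * (b * b) := inj _ _ (by rw [cmul, cmul, cmul, hcode l hlk, hac, hbc, hee])
        rw [this, show g * (a * a * (b * b)) * g⁻¹ =
          (g * a * g⁻¹) * (g * a * g⁻¹) * ((g * b * g⁻¹) * (g * b * g⁻¹)) by group]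
        exact seqSubgroup_mono hΓ (Nat.le_add_right _ _)
          (Subgroup.mul_mem _ (hsqH _ (hgH a ha)) (hsqH _ (hgH b hb)))
      · obtain ⟨i, rfl⟩ : ∃ i', i = i' + 1 := ⟨i - 1, by omega⟩
        obtain ⟨hout, hin⟩ := hflag i (by omega)
        have h1 := hin (l - C.m) (by omega)
        rw [show C.m + (l - C.m) = l by omega, ← hcode l hlk, ← hkey g hg] at h1
        have h2 := (hmemk _).1 (hgH _ (hH ▸ mem_seqSubgroup_self hΓ hlk))
        refine ((spec (C.m + (i + 1)) (by omega)).1 _).2 ?_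
        rw [← List.take_append_drop (2 ^ (C.m + i + 1)) C.L, List.mem_append] at h2
        rcases h2 with h2 | h2
        · exact h2
        · exact absurd h1 (hout _ h2)
    · intro a b _ _ ha hb
      rw [show g * (a * b) * g⁻¹ = (g * a * g⁻¹) * (g * b * g⁻¹) by group]
      exact Subgroup.mul_mem _ ha hb
    · intro a _ ha
      rw [show g * a⁻¹ * g⁻¹ = (g * a * g⁻¹)⁻¹ by group]
      exact Subgroup.inv_mem _ ha
  have hb : autInducedBy ⊤ (S₀ : Subgroup Γ) ≤ autInducedBy (S₀ : Subgroup Γ) (S₀ : Subgroup Γ) := by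
    refine autInducedBy_top_le_of_pow S₀ fun g hg => ?_
    refine exists_pow_eq_one_of_flag (P := H) (d := k - C.m)
      (fun i => (seqSubgroup hΓ (C.m + i)).subgroupOf H) (fun i => C.m + i)
      (fun i _ => Subgroup.comap_mono (seqSubgroup_mono hΓ (Nat.le_succ _))) ?_ ?_ ?_
      (fun i _ => rfl) (conjAut H g hg) ?_
    · intro x hx
      have hbase : seqSubgroup hΓ C.m ≤ (frattini H).map H.subtype := by
        rw [seqSubgroup, Subgroup.closure_le]
        rintro _ ⟨l, hlm, rfl⟩
        obtain ⟨⟨e1, e2⟩, hee⟩ := hexpr l hlm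
        obtain ⟨a, ha, hac⟩ := hel _ e1
        obtain ⟨b, hb, hbc⟩ := hel _ e2
        have : hΓ l = a * a * (b * b) :=
          inj _ _ (by rw [cmul, cmul, cmul, hcode l (hlm.trans_le hmk), hac, hbc, hee])
        rw [this]
        exact ⟨⟨a, ha⟩ * ⟨a, ha⟩ * (⟨b, hb⟩ * ⟨b, hb⟩), Subgroup.mul_mem _
          (sq_mem_frattini S₀.2 (⟨a, ha⟩ : H)) (sq_mem_frattini S₀.2 (⟨b, hb⟩ : H)), rfl⟩
      obtain ⟨y, hy, hyx⟩ := hbase (Subgroup.mem_subgroupOf.1 hx)
      exact (Subtype.ext hyx : y = x) ▸ hy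
    · rw [Subgroup.subgroupOf_eq_top, show C.m + (k - C.m) = k by omega]
    · intro i hi
      rw [Nat.card_congr (Subgroup.subgroupOfEquivOfLe (seqSubgroup_mono hΓ (by omega))).toEquiv]
      exact (spec _ (by omega)).2.2
    · intro i hi x
      simp only [Subgroup.mem_subgroupOf]
      show g * (x : Γ) * g⁻¹ ∈ seqSubgroup hΓ (C.m + i) ↔ (x : Γ) ∈ seqSubgroup hΓ (C.m + i)
      refine ⟨fun h => ?_, hinvar g hg i hi _⟩
      have := hinvar g⁻¹ (Subgroup.inv_mem _ hg) i hi _ h
      simpa [mul_assoc] using this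
  refine isSimple_of_witness S S₀ ?_ (fun T hT => ?_) hb
  · intro h
    have h' : H = ⊥ := h
    rw [h', Subgroup.card_bot] at hcardk
    exact absurd hcardk.symm (Nat.one_lt_two_pow hpos.ne').ne'
  by_cases hTbot : T = ⊥
  · exact Or.inl hTbot
  refine Or.inr ?_
  have hTH : T ≤ H := hT.1
  -- the central involution lies in `T`
  simp only [SimpleCert.centerOK, Bool.and_eq_true, decide_eq_true_eq, List.all_eq_true, Bool.or_eq_true,
    beq_iff_eq, List.any_eq_true, Bool.not_eq_true', beq_eq_false_iff_ne] at hcent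
  obtain ⟨⟨hz, hzne⟩, hcen⟩ := hcent
  have hzT : ∃ x ∈ T, code (ρ x) = C.el C.z := by
    have hfin : Finite T := finite_of_le hTH
    have hTn : (T.subgroupOf H).Normal := stronglyClosed_subgroupOf_normal hT
    have hnt : Nontrivial (T.subgroupOf H) :=
      (Subgroup.nontrivial_iff_ne_bot _).2 fun h => hTbot (by
        rw [Subgroup.subgroupOf_eq_bot] at h
        exact le_bot_iff.1 (h le_rfl hTH))
    have hp : IsPGroup 2 (ConjAct H) := S₀.2.of_equiv ConjAct.toConjAct
    have hTp : IsPGroup 2 (T.subgroupOf H) := IsPGroup.to_subgroup (S₀.2 : IsPGroup 2 H) _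
    obtain ⟨n, hn0, hn⟩ := hTp.nontrivial_iff_card.1 hnt
    obtain ⟨b, hb1, hb2⟩ := hp.exists_fixed_point_of_prime_dvd_card_of_fixed_point (T.subgroupOf H)
      (hn ▸ dvd_pow_self 2 hn0.ne') (a := 1) (fun g => Subtype.ext (by simp [ConjAct.smul_def]))
    refine ⟨((b : H) : Γ), b.2, ?_⟩
    rcases hcen _ ((hmemk _).1 (b : H).2) with (h | h) | ⟨h, hh, hne⟩
    · exact absurd (Subtype.ext (Subtype.ext (inj _ _ (h.trans c1.symm)))) hb2.symm
    · exact h
    · obtain ⟨j, hj, rfl⟩ := List.getElem_of_mem hh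
      have hjH : hΓ j ∈ H := hH ▸ mem_seqSubgroup_self hΓ hj
      have h1 : ConjAct.toConjAct (⟨hΓ j, hjH⟩ : H) • b = b := hb1 _
      have h2 : hΓ j * ((b : H) : Γ) * (hΓ j)⁻¹ = (b : H) :=
        congrArg (fun y : T.subgroupOf H => ((y : H) : Γ)) h1
      refine absurd ?_ hne
      rw [show C.hs[j] = code (ρ (hΓ j)) by rw [hcode j hj, List.getD_eq_getElem _ _ hj], ← cmul, ← cmul]
      exact congrArg (fun y => code (ρ y)) (mul_inv_eq_iff_eq_mul.1 h2).symm
  -- run the program
  have hrun : ∀ (steps : List (Bool × ℕ × ℕ × ℕ)) (known fin : List ℕ),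
      C.run steps known = some fin → (∀ i ∈ known, ∃ x ∈ T, code (ρ x) = C.el i) →
      ∀ i ∈ fin, ∃ x ∈ T, code (ρ x) = C.el i := by
    intro steps
    induction steps with
    | nil =>
      intro known fin h hk
      simp only [SimpleCert.run, Option.some.injEq] at h
      exact h ▸ hk
    | cons s rest ih =>
      intro known fin h hk
      simp only [SimpleCert.run] at h
      split at h
      case isFalse => simp at h
      case isTrue hs =>
        refine ih _ _ h fun i hi => ?_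
        rcases List.mem_cons.1 hi with rfl | hi
        case inr => exact hk i hi
        simp only [Bool.and_eq_true, decide_eq_true_eq] at hs
        obtain ⟨hs, hlen⟩ := hs
        obtain ⟨b, i, j, l⟩ := s
        cases b with
        | false =>
          simp only [SimpleCert.stepOK, Bool.and_eq_true, List.contains_eq_mem, decide_eq_true_eq,
            beq_iff_eq] at hs
          obtain ⟨a, ha, hac⟩ := hk i hs.1.1
          obtain ⟨a', ha', hac'⟩ := hk j hs.1.2
          exact ⟨a * a', T.mul_mem ha ha', by rw [cmul, hac, hac', hs.2]⟩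
        | true =>
          simp only [SimpleCert.stepOK, Bool.and_eq_true, List.contains_eq_mem, decide_eq_true_eq,
            beq_iff_eq] at hs
          obtain ⟨a, ha, hac⟩ := hk i hs.1.1
          obtain ⟨y, hy, hyc⟩ := hel l hlen
          have hjc : C.conjs.getD j 0 ∈ C.hs ++ C.conjs := by
            rw [List.getD_eq_getElem _ _ hs.1.2]
            exact List.mem_append_right _ (List.getElem_mem _)
          obtain ⟨g, hg⟩ := hmem _ hjc
          have hgy : g * a = y * g := inj _ _ (by rw [cmul, cmul, hg, hac, hyc]; exact hs.2)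
          have hval : ∀ x : Subgroup.zpowers a, g * (x : Γ) * g⁻¹ ∈ (S₀ : Subgroup Γ) := by
            rintro ⟨_, q, rfl⟩
            show g * a ^ q * g⁻¹ ∈ H
            rw [← conj_zpow, hgy, mul_inv_cancel_right]
            exact H.zpow_mem hy q
          have hφ : conjHom (Subgroup.zpowers a) g ∈
              (groupFusionSystem (S₀ : Subgroup Γ)).Hom (Subgroup.zpowers a) :=
            ⟨Subgroup.zpowers_le.2 (hTH ha), hval, g, fun x => rfl⟩
          have h1 : g * a * g⁻¹ ∈ T :=
            hT.2 _ (Subgroup.zpowers_le.2 ha) _ hφ ⟨a, Subgroup.mem_zpowers a⟩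
          rw [hgy, mul_inv_cancel_right] at h1
          exact ⟨y, h1, hyc⟩
  simp only [SimpleCert.slpOK] at hslp
  split at hslp
  case h_2 => simp at hslp
  case h_1 fin hfin =>
    have hall := hrun _ _ _ hfin (fun i hi => by rw [List.mem_singleton.1 hi]; exact hzT)
    simp only [List.all_eq_true, List.any_eq_true, beq_iff_eq] at hslp
    refine le_antisymm hTH ?_
    rw [hS₀, hH, seqSubgroup, Subgroup.closure_le]
    rintro _ ⟨j, hj, rfl⟩
    obtain ⟨i, hi, hie⟩ := hslp (C.hs.getD j 0) (by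
      rw [List.getD_eq_getElem _ _ hj]; exact List.getElem_mem hj)
    obtain ⟨x, hx, hxc⟩ := hall i hi
    rw [inj (hΓ j) x (by rw [hcode j hj, hxc, hie])]
    exact hx

end CfsgLib.FusionCert
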