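import Mathlib.Algebra.Group.Subgroup.Finite
import Cfsg.Agent.Lib.FusionCert.Code

/-!
A subgroup of a finite group of permutations of 24 points given by a checked sequence of index-2 steps.
-/
set_option autoImplicit false

namespace CfsgLib.FusionCert

/-- The list of all products along a sequence. -/
def elemsC (hs : List ℕ) : ℕ → List ℕ
  | 0 => [idC]
  | j + 1 => elemsC hs j ++ (elemsC hs j).map fun a => mulC a (hs.getD j 0)

/-- The checks on the sequence, against the tabulated list `L`. -/
def seqCheck (hs L : List ℕ) : Bool :=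
  (elemsC hs hs.length == L) &&
  (List.range hs.length).all fun j =>
    let h := hs.getD j 0
    let E := L.take (2 ^ j)
    E.contains (mulC h h) && !E.contains h &&
      (List.range j).all fun l => (E.map fun a => mulC a h).contains (mulC h (hs.getD l 0))

theorem elemsC_length (hs : List ℕ) : ∀ j, (elemsC hs j).length = 2 ^ j
  | 0 => rfl
  | j + 1 => by
    rw [elemsC, List.length_append, List.length_map, elemsC_length hs j, pow_succ]
    omega

theorem elemsC_prefix (hs : List ℕ) {j k : ℕ} (h : j ≤ k) : elemsC hs j <+: elemsC hs k := by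
  induction h with
  | refl => exact List.prefix_refl _
  | step _ ih =>
    refine ih.trans ?_
    rw [elemsC]
    exact List.prefix_append _ _

theorem elemsC_eq_take {hs L : List ℕ} (hL : elemsC hs hs.length = L) {j : ℕ} (hj : j ≤ hs.length) :
    elemsC hs j = L.take (2 ^ j) := by
  have h := List.prefix_iff_eq_take.1 (elemsC_prefix hs hj)
  rwa [elemsC_length, hL] at h

variable {Γ : Type*} [Group Γ] [Finite Γ] (ρ : Γ →* Equiv.Perm (Fin 24))

/-- The subgroup generated by the first `j` members of a sequence. -/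
def seqSubgroup (hΓ : ℕ → Γ) (j : ℕ) : Subgroup Γ := Subgroup.closure {g | ∃ l < j, hΓ l = g}

omit [Finite Γ] in
theorem seqSubgroup_mono (hΓ : ℕ → Γ) {i j : ℕ} (h : i ≤ j) : seqSubgroup hΓ i ≤ seqSubgroup hΓ j :=
  Subgroup.closure_mono fun _ ⟨l, hl, hg⟩ => ⟨l, hl.trans_le h, hg⟩

omit [Finite Γ] in
theorem mem_seqSubgroup_self (hΓ : ℕ → Γ) {l j : ℕ} (h : l < j) : hΓ l ∈ seqSubgroup hΓ j :=
  Subgroup.subset_closure ⟨l, h, rfl⟩

theorem seq_spec {hs L : List ℕ} (hρ : Function.Injective ρ) (hcheck : seqCheck hs L = true) (hΓ : ℕ → Γ)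
    (hcode : ∀ j < hs.length, code (ρ (hΓ j)) = hs.getD j 0) :
    ∀ j ≤ hs.length, (∀ g, g ∈ seqSubgroup hΓ j ↔ code (ρ g) ∈ L.take (2 ^ j)) ∧
      (∀ c ∈ L.take (2 ^ j), ∃ g, code (ρ g) = c) ∧ Nat.card (seqSubgroup hΓ j) = 2 ^ j := by
  simp only [seqCheck, Bool.and_eq_true, beq_iff_eq, List.all_eq_true, List.mem_range,
    Bool.not_eq_true', List.contains_eq_mem, decide_eq_true_eq, decide_eq_false_iff_not] at hcheck
  obtain ⟨hL, hst⟩ := hcheck
  have inj : ∀ a b : Γ, code (ρ a) = code (ρ b) → a = b := fun a b h => hρ (code_injective h)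
  have cmul : ∀ a b : Γ, code (ρ (a * b)) = mulC (code (ρ a)) (code (ρ b)) := fun a b => by
    rw [map_mul, code_mul]
  intro j
  induction j with
  | zero =>
    intro _
    have hbot : seqSubgroup hΓ 0 = ⊥ := by
      rw [seqSubgroup, Subgroup.closure_eq_bot_iff]
      rintro g ⟨l, hl, -⟩
      omega
    have h0 : L.take (2 ^ 0) = [idC] := by rw [← elemsC_eq_take hL (Nat.zero_le _)]; rfl
    rw [hbot, h0]
    refine ⟨fun g => ?_, fun c hc => ?_, by simp⟩
    · rw [Subgroup.mem_bot, List.mem_singleton, ← code_one, ← map_one ρ]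
      exact ⟨fun h => h ▸ rfl, inj g 1⟩
    · exact ⟨1, by rw [map_one, code_one, List.mem_singleton.1 hc]⟩
  | succ j ih =>
    intro hj
    obtain ⟨hmem, hex, hcard⟩ := ih (by omega)
    obtain ⟨⟨hsq, hnot⟩, hnorm⟩ := hst j (by omega)
    set H := seqSubgroup hΓ j with hH
    set h := hΓ j with hh
    have hc : code (ρ h) = hs.getD j 0 := hcode j (by omega)
    have h2 : h * h ∈ H := (hmem _).2 (by rw [cmul, hc]; exact hsq)
    have hnH : h ∉ H := fun hin => hnot (hc ▸ (hmem _).1 hin)
    have hconj : ∀ b ∈ H, h * b * h⁻¹ ∈ H := by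
      intro b hb
      refine Subgroup.closure_induction (p := fun b _ => h * b * h⁻¹ ∈ H) ?_ ?_ ?_ ?_ hb
      · rintro _ ⟨l, hl, rfl⟩
        have hl' := hnorm l hl
        rw [List.mem_map] at hl'
        obtain ⟨a, ha, hah⟩ := hl'
        obtain ⟨g, rfl⟩ := hex a ha
        have : g * h = h * hΓ l := inj _ _ (by rw [cmul, cmul, hc, hcode l (by omega), hah])
        rw [← this, mul_inv_cancel_right]
        exact (hmem g).2 ha
      · simp
      · intro a b _ _ ha hb
        simpa [mul_assoc] using H.mul_mem ha hb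
      · intro a _ ha
        simpa [mul_assoc] using H.inv_mem ha
    let U : Set Γ := {g | g ∈ H ∨ g * h⁻¹ ∈ H}
    have hUmul : ∀ a ∈ U, ∀ b ∈ U, a * b ∈ U := by
      intro a ha b hb
      rcases ha with ha | ha <;> rcases hb with hb | hb
      · exact Or.inl (H.mul_mem ha hb)
      · exact Or.inr (by simpa [mul_assoc] using H.mul_mem ha hb)
      · exact Or.inr (by simpa [mul_assoc] using H.mul_mem ha (hconj b hb))
      · exact Or.inl (by simpa [mul_assoc] using H.mul_mem (H.mul_mem ha (hconj _ hb)) h2)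
    have hset : ∀ g, g ∈ seqSubgroup hΓ (j + 1) ↔ g ∈ U := by
      refine fun g => ⟨fun hg => ?_, fun hg => ?_⟩
      · refine Subgroup.closure_induction (p := fun g _ => g ∈ U) ?_ (Or.inl H.one_mem)
          (fun a b _ _ ha hb => hUmul a ha b hb) (fun a _ ha => ?_) hg
        · rintro _ ⟨l, hl, rfl⟩
          rcases Nat.lt_succ_iff_lt_or_eq.1 hl with hl' | rfl
          · exact Or.inl (mem_seqSubgroup_self hΓ hl')
          · exact Or.inr (by rw [← hh, mul_inv_cancel]; exact H.one_mem)
        · have hp : ∀ n : ℕ, a ^ n ∈ U := fun n => by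
            induction n with
            | zero => exact Or.inl (by simp)
            | succ n ih => rw [pow_succ]; exact hUmul _ ih _ ha
          rw [show a⁻¹ = a ^ (orderOf a - 1) from ?_]
          · exact hp _
          · rw [inv_eq_iff_mul_eq_one, ← pow_succ', Nat.sub_add_cancel (orderOf_pos a), pow_orderOf_eq_one]
      · rcases hg with hg | hg
        · exact seqSubgroup_mono hΓ (Nat.le_succ j) hg
        · have := (seqSubgroup hΓ (j + 1)).mul_mem (seqSubgroup_mono hΓ (Nat.le_succ j) hg)
            (mem_seqSubgroup_self hΓ (Nat.lt_succ_self j))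
          rwa [← hh, inv_mul_cancel_right] at this
    have htake : L.take (2 ^ (j + 1)) = L.take (2 ^ j) ++ (L.take (2 ^ j)).map fun a => mulC a (hs.getD j 0) := by
      rw [← elemsC_eq_take hL hj, ← elemsC_eq_take hL (by omega : j ≤ hs.length), elemsC]
    refine ⟨fun g => ?_, fun c hc' => ?_, ?_⟩
    · rw [hset, htake, List.mem_append, List.mem_map]
      refine or_congr (hmem g) ⟨fun hg => ?_, ?_⟩
      · exact ⟨_, (hmem _).1 hg, by rw [← hc, ← cmul, inv_mul_cancel_right]⟩
      · rintro ⟨a, ha, hag⟩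
        obtain ⟨g', rfl⟩ := hex a ha
        rw [← hc, ← cmul] at hag
        rw [← inj _ _ hag, mul_inv_cancel_right]
        exact (hmem g').2 ha
    · rw [htake, List.mem_append, List.mem_map] at hc'
      rcases hc' with hc' | ⟨a, ha, rfl⟩
      · exact hex c hc'
      · obtain ⟨g', rfl⟩ := hex a ha
        exact ⟨g' * h, by rw [cmul, hc]⟩
    · have he : (seqSubgroup hΓ (j + 1) : Set Γ) = (H : Set Γ) ∪ (fun a => a * h) '' (H : Set Γ) := by
        ext g
        show g ∈ seqSubgroup hΓ (j + 1) ↔ _
        rw [hset]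
        refine or_congr Iff.rfl ⟨fun hg => ⟨_, hg, inv_mul_cancel_right g h⟩, ?_⟩
        rintro ⟨a, ha, rfl⟩
        simpa using ha
      have hdis : Disjoint (H : Set Γ) ((fun a => a * h) '' (H : Set Γ)) := by
        rw [Set.disjoint_right]
        rintro _ ⟨a, ha, rfl⟩ hin
        exact hnH (by simpa using H.mul_mem (H.inv_mem ha) hin)
      have : Nat.card (seqSubgroup hΓ (j + 1)) = Nat.card H + Nat.card H := by
        rw [← SetLike.coe_sort_coe, Nat.card_coe_set_eq, he, Set.ncard_union_eq hdis,
          Set.ncard_image_of_injective _ (mul_left_injective h), ← Nat.card_coe_set_eq, SetLike.coe_sort_coe]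
      rw [this, hcard, pow_succ]
      ring

end CfsgLib.FusionCert
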